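import Groth.Agent.Lib.Cohom.Serre

/-! # Serre's criterion from exactness of sections on submodules of free modules -/
universe u
open CategoryTheory CategoryTheory.Limits Opposite TopologicalSpace AlgebraicGeometry Abelian
namespace GrothLib.SerreSub
open GrothLib GrothLib.Cohom

variable {X : Scheme.{u}}

/-- Sections are exact on short exact sequences with first term inside a finite free module. -/
def SecExact (X : Scheme.{u}) : Prop :=
  ∀ (S : ShortComplex X.Modules) (n : ℕ)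
      (j : S.X₁ ⟶ ∏ᶜ (fun _ : Fin n => Coh.structureModule X)),
      S.ShortExact → Mono j → Coh.IsQCoh S.X₁ → Coh.IsQCoh S.X₂ → Coh.IsQCoh S.X₃ →
        Function.Surjective (S.g.val.app (op ⊤)).hom

/-- Embeds into a finite free module. -/
def SubFree (M : X.Modules) : Prop :=
  ∃ (n : ℕ) (j : M ⟶ ∏ᶜ (fun _ : Fin n => Coh.structureModule X)), Mono j

theorem good_structureModule (X : Scheme.{u}) :
    (Coh.structureModule X).IsQuasicoherent ∧ SubFree (Coh.structureModule X) :=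
  ⟨isQuasicoherent_structureModule X, 1, Pi.lift (fun _ => 𝟙 _),
    ⟨fun a b h => by simpa using congrArg (fun t => t ≫ Pi.π _ (0 : Fin 1)) h⟩⟩

theorem SubFree.biprod {M : X.Modules} (hM : SubFree M) : SubFree (M ⊞ Coh.structureModule X) := by
  obtain ⟨n, j, hj⟩ := hM
  refine ⟨n + 1, Pi.lift (Fin.cases biprod.snd (fun i => biprod.fst ≫ j ≫ Pi.π _ i)), ⟨fun a b h => ?_⟩⟩
  have h' : ∀ i, a ≫ Fin.cases biprod.snd (fun i => biprod.fst ≫ j ≫ Pi.π _ i) i =
      b ≫ Fin.cases biprod.snd (fun i => biprod.fst ≫ j ≫ Pi.π _ i) i := fun i => by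
    simpa using congrArg (fun t => t ≫ Pi.π _ i) h
  apply biprod.hom_ext
  · rw [← cancel_mono j]
    exact Pi.hom_ext _ _ fun i => by simpa using h' i.succ
  · simpa using h' 0

theorem SecExact.surjective_coimage (h : SecExact X) {M Q : X.Modules} (hM : M.IsQuasicoherent) (hM' : SubFree M)
    (g : M ⟶ Q) [Q.IsQuasicoherent] : Function.Surjective ((Abelian.coimage.π g).app ⊤) := by
  obtain ⟨n, j, hj⟩ := hM'
  have hK := QCoh.isQuasicoherent_kernel g
  exact h (ShortComplex.mk (kernel.ι g) (Abelian.coimage.π g) (cokernel.condition _)) n (kernel.ι g ≫ j)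
    { exact := ShortComplex.exact_cokernel _ } (mono_comp _ _) hK hM (QCoh.isQuasicoherent_cokernel _)

/-- A section locally in the image is in the image when `H¹` of the kernel vanishes. -/
theorem exists_lift_of_locally' {M Q : X.Modules} (g : M ⟶ Q) (U : X.Opens)
    (h : Function.Surjective ((Abelian.coimage.π g).app U)) (q : Γ(Q, U))
    (hq : ∀ p ∈ U, ∃ (V : X.Opens) (i : V ≤ U), p ∈ V ∧
      ∃ r, g.app V r = Q.presheaf.map (homOfLE i).op q) :
    ∃ m, g.app U m = q := by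
  have hS : (ShortComplex.mk (kernel.ι g) (Abelian.coimage.π g) (cokernel.condition _)).ShortExact :=
    { exact := ShortComplex.exact_cokernel _ }
  let m := Abelian.factorThruCoimage g
  have hm : Abelian.coimage.π g ≫ m = g := Abelian.coimage.fac g
  have hgapp (V : X.Opens) (r : Γ(M, V)) : m.app V ((Abelian.coimage.π g).app V r) = g.app V r := by
    conv_rhs => rw [← hm]
    rfl
  choose V i hpV r hr using fun p : U ↦ hq p.1 p.2
  let C : TopCat.Sheaf AddCommGrpCat.{u} X :=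
    ⟨(Abelian.coimage g).presheaf, (Abelian.coimage g).isSheaf⟩
  obtain ⟨c, hc, -⟩ := TopCat.Sheaf.existsUnique_gluing' C V U (fun p ↦ homOfLE (i p))
    (fun p hp ↦ Opens.mem_iSup.2 ⟨⟨p, hp⟩, hpV _⟩)
    (fun p ↦ (Abelian.coimage.π g).app (V p) (r p)) (fun p p' ↦ by
      apply app_injective_of_mono m
      change m.app _ ((Abelian.coimage g).presheaf.map (Opens.infLELeft (V p) (V p')).op _) =
        m.app _ ((Abelian.coimage g).presheaf.map (Opens.infLERight (V p) (V p')).op _)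
      rw [← QCoh.map_app m, ← QCoh.map_app m, hgapp, hgapp, hr, hr,
        ← ConcreteCategory.comp_apply, ← ConcreteCategory.comp_apply, ← Functor.map_comp,
        ← Functor.map_comp]
      rfl)
  obtain ⟨a, ha⟩ := h c
  refine ⟨a, ?_⟩
  apply TopCat.Sheaf.eq_of_locally_eq' ⟨Q.presheaf, Q.isSheaf⟩ V U (fun p ↦ homOfLE (i p))
    (fun p hp ↦ Opens.mem_iSup.2 ⟨⟨p, hp⟩, hpV _⟩)
  intro p
  change Q.presheaf.map (homOfLE (i p)).op (g.app U a) = Q.presheaf.map (homOfLE (i p)).op q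
  rw [← hr p, ← hgapp, ← hgapp, ha, QCoh.map_app]
  exact congrArg _ (hc p)

variable (h : SecExact X)

include h in
/-- A closed point in an affine open `U` has a neighbourhood `X_f ⊆ U` with `f` global. -/
theorem exists_basicOpen_le_of_closedPoint {x : X} (hx : IsClosed ({x} : Set X)) {U : X.Opens}
    (hU : IsAffineOpen U) (hxU : x ∈ U) :
    ∃ f : Γ(X, ⊤), x ∈ X.basicOpen f ∧ IsAffineOpen (X.basicOpen f) := by
  let Z : Closeds X := ⟨(U : Set X)ᶜ ∪ {x}, U.isOpen.isClosed_compl.union hx⟩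
  let I := Scheme.IdealSheafData.vanishingIdeal Z
  let ι := I.subschemeι
  have hrange : ∀ z, ι z ∈ U → ι z = x := fun z hz ↦ by
    have : ι z ∈ (Z : Set X) := by
      rw [← Scheme.IdealSheafData.coe_support_vanishingIdeal (Z := Z)]
      rw [← Scheme.IdealSheafData.range_subschemeι]
      exact ⟨z, rfl⟩
    exact this.resolve_left (fun h ↦ h hz)
  let V₀ : X.Opens := ⟨{x}ᶜ, hx.isOpen_compl⟩
  let W : ULift.{u} Bool → X.Opens := fun b ↦ if b.down then U else V₀
  let c : ∀ b, Γ(I.subscheme, ι ⁻¹ᵁ W b) := fun b ↦ if b.down then 1 else 0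
  have hcov : ⊤ ≤ ⨆ b, ι ⁻¹ᵁ W b := fun z _ ↦ Opens.mem_iSup.2 <| by
    by_cases hz : ι z ∈ U
    · exact ⟨⟨true⟩, hz⟩
    · exact ⟨⟨false⟩, fun h ↦ hz (h ▸ hxU)⟩
  obtain ⟨e, he, -⟩ := TopCat.Sheaf.existsUnique_gluing' I.subscheme.sheaf (fun b ↦ ι ⁻¹ᵁ W b) ⊤
    (fun b ↦ homOfLE le_top) hcov c (fun a b ↦ by
      rcases a with ⟨⟨⟩⟩ <;> rcases b with ⟨⟨⟩⟩
      case false.false => rfl
      case true.true => rfl
      all_goals
        refine @Subsingleton.elim _ ?_ _ _
        have hbot : ι ⁻¹ᵁ U ⊓ ι ⁻¹ᵁ V₀ = ⊥ :=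
          le_antisymm (fun z hz ↦ (hz.2 (hrange z hz.1)).elim) bot_le
        have h₁ : Subsingleton Γ(I.subscheme, ι ⁻¹ᵁ U ⊓ ι ⁻¹ᵁ V₀) := by rw [hbot]; infer_instance
        have h₂ : Subsingleton Γ(I.subscheme, ι ⁻¹ᵁ V₀ ⊓ ι ⁻¹ᵁ U) := by
          rw [inf_comm, hbot]; infer_instance
        first | exact h₁ | exact h₂)
  have hqc := isQuasicoherent_structureModule X
  have := isQuasicoherent_structureModule I.subscheme
  have := QCoh.isQuasicoherent_pushforward ι (Coh.structureModule I.subscheme)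
  have hker := h.surjective_coimage hqc (good_structureModule X).2 (ClSub.toSubscheme I)
  obtain ⟨f, hf⟩ := exists_lift_of_locally' (ClSub.toSubscheme I) ⊤ hker
    (show Γ(I.subscheme, ι ⁻¹ᵁ ⊤) from e) fun p _ ↦ by
      by_cases hp : p ∈ U
      · exact ⟨U, le_top, hp, (1 : Γ(X, U)), (map_one (ι.app U).hom).trans (he ⟨true⟩).symm⟩
      · exact ⟨V₀, le_top, fun h ↦ hp (h ▸ hxU), (0 : Γ(X, V₀)),
          (map_zero (ι.app V₀).hom).trans (he ⟨false⟩).symm⟩
  replace hf : ι.app ⊤ f = e := hf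
  have hbo : ι ⁻¹ᵁ X.basicOpen f = I.subscheme.basicOpen e := by
    rw [Scheme.preimage_basicOpen]
    exact congrArg I.subscheme.basicOpen hf
  have hpt : ∀ y, y ∈ (Z : Set X) → ∃ z, ι z = y := fun y hy ↦ by
    rw [← Scheme.IdealSheafData.coe_support_vanishingIdeal (Z := Z),
      ← Scheme.IdealSheafData.range_subschemeι] at hy
    exact hy
  have hle : X.basicOpen f ≤ U := fun y hy ↦ by
    by_contra hyU
    obtain ⟨z, rfl⟩ := hpt y (Or.inl hyU)
    have hz : z ∈ I.subscheme.basicOpen e := hbo ▸ hy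
    have hzV : z ∈ ι ⁻¹ᵁ W ⟨false⟩ := fun h ↦ hyU (h ▸ hxU)
    have : z ∈ I.subscheme.basicOpen (c ⟨false⟩) := by
      rw [← he ⟨false⟩]
      erw [Scheme.basicOpen_res]
      exact ⟨hzV, hz⟩
    exact (Scheme.basicOpen_zero I.subscheme _).le this
  refine ⟨f, ?_, ?_⟩
  · obtain ⟨z, hzx⟩ := hpt x (Or.inr rfl)
    have hz : z ∈ I.subscheme.basicOpen (c ⟨true⟩) := by
      rw [show c ⟨true⟩ = 1 from rfl, Scheme.basicOpen_of_isUnit _ isUnit_one]
      exact (show ι z ∈ U from hzx.symm ▸ hxU)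
    refine hzx ▸ (?_ : ι z ∈ X.basicOpen f)
    rw [← he ⟨true⟩] at hz
    erw [Scheme.basicOpen_res] at hz
    exact hbo.ge hz.2
  · have := hU.basicOpen (X.presheaf.map (homOfLE (le_top (a := U))).op f)
    rwa [Scheme.basicOpen_res, inf_eq_right.2 hle] at this

include h in
/-- A finite family of global functions as the image of a submodule of a free module. -/
theorem exists_source (s : Finset Γ(X, ⊤)) :
    ∃ (M : X.Modules) (g : M ⟶ Coh.structureModule X), M.IsQuasicoherent ∧ SubFree M ∧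
      (∀ f ∈ s, ∃ m, g.app ⊤ m = f) ∧
      ∀ m, appFun g m ∈ Ideal.span (↑s : Set Γ(X, ⊤)) := by
  classical
  have hqc := isQuasicoherent_structureModule X
  induction s using Finset.induction with
  | empty => exact ⟨Coh.structureModule X, 0, hqc, (good_structureModule X).2, by simp, fun m ↦ Submodule.zero_mem _⟩
  | @insert a s _ ih =>
    obtain ⟨M, g, hM, hM', hg, hgs⟩ := ih
    refine ⟨M ⊞ Coh.structureModule X, biprod.desc g (mulHom a), isQuasicoherent_biprod M _, ?_, ?_,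
      fun m ↦ ?_⟩
    rotate_left 2
    · have hd : biprod.desc g (mulHom a) = biprod.fst ≫ g + biprod.snd ≫ mulHom a := biprod.desc_eq
      rw [hd, Finset.coe_insert]
      show appFun (biprod.fst ≫ g) m + appFun (biprod.snd ≫ mulHom a) m ∈ _
      refine Submodule.add_mem _ (Ideal.span_mono (Set.subset_insert _ _) (hgs _)) ?_
      show appFun (mulHom a) ((biprod.snd : M ⊞ Coh.structureModule X ⟶ _).app ⊤ m) ∈ _
      exact (mulHom_app_apply a _).symm ▸
        Ideal.mul_mem_left _ _ (Ideal.subset_span (Set.mem_insert _ _))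
    · exact hM'.biprod
    · intro f hf
      rcases Finset.mem_insert.1 hf with rfl | hf
      · refine ⟨(biprod.inr : _ ⟶ M ⊞ Coh.structureModule X).app ⊤ (1 : Γ(X, ⊤)), ?_⟩
        change ((biprod.inr : _ ⟶ M ⊞ Coh.structureModule X) ≫ biprod.desc g (mulHom f)).app ⊤ _ = _
        rw [biprod.inr_desc]
        exact mulHom_app_one f
      · obtain ⟨m, rfl⟩ := hg f hf
        refine ⟨(biprod.inl : M ⟶ M ⊞ Coh.structureModule X).app ⊤ m, ?_⟩
        change ((biprod.inl : M ⟶ M ⊞ Coh.structureModule X) ≫ biprod.desc g (mulHom a)).app ⊤ _ = _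
        rw [biprod.inl_desc]

include h in
/-- Serre's criterion. -/
theorem isAffine_of_secExact [CompactSpace X] : IsAffine X := by
  classical
  let S : Set Γ(X, ⊤) := {f | IsAffineOpen (X.basicOpen f)}
  have hcov : ∀ x : X, ∃ f ∈ S, x ∈ X.basicOpen f := by
    intro x
    obtain ⟨y, hy, hyc⟩ := IsClosed.exists_closed_singleton (isClosed_closure (s := ({x} : Set X)))
      ⟨x, subset_closure rfl⟩
    obtain ⟨U, hU, hyU, -⟩ := Opens.isBasis_iff_nbhd.1 X.isBasis_affineOpens (Opens.mem_top y)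
    obtain ⟨f, hyf, hf⟩ := exists_basicOpen_le_of_closedPoint h hyc hU hyU
    exact ⟨f, hf, (specializes_iff_mem_closure.2 hy).mem_open (X.basicOpen f).isOpen hyf⟩
  choose f hfS hxf using hcov
  obtain ⟨t, ht⟩ := isCompact_univ.elim_finite_subcover (fun x : X ↦ (X.basicOpen (f x) : Set X))
    (fun x ↦ (X.basicOpen (f x)).isOpen) fun x _ ↦ Set.mem_iUnion.2 ⟨x, hxf x⟩
  obtain ⟨M, g, hM, hM', hg, hgs⟩ := exists_source h (t.image f)
  have hqc := isQuasicoherent_structureModule X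
  refine isAffine_of_isAffineOpen_basicOpen (↑(t.image f)) ?_ fun i hi ↦ ?_
  swap
  · obtain ⟨x, -, rfl⟩ := Finset.mem_image.1 (Finset.mem_coe.1 hi)
    exact hfS x
  obtain ⟨m, hm⟩ := exists_lift_of_locally' g ⊤
    (h.surjective_coimage hM hM' g) (1 : Γ(X, ⊤)) fun p _ ↦ by
      obtain ⟨x, hxt, hx⟩ := Set.mem_iUnion₂.1 (ht (Set.mem_univ p))
      obtain ⟨m, hm⟩ := hg (f x) (Finset.mem_image_of_mem f hxt)
      obtain ⟨w, hw⟩ : IsUnit (X.presheaf.map (homOfLE (le_top (a := X.basicOpen (f x)))).op (f x)) :=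
        X.toRingedSpace.isUnit_res_basicOpen (f x)
      refine ⟨X.basicOpen (f x), le_top, hx,
        (↑w⁻¹ : Γ(X, X.basicOpen (f x))) • M.presheaf.map (homOfLE le_top).op m, ?_⟩
      rw [Scheme.Modules.Hom.app_smul, ← QCoh.map_app, hm]
      refine Eq.trans ?_ (map_one (X.presheaf.map (homOfLE (le_top (a := X.basicOpen (f x)))).op).hom).symm
      exact (congrArg (fun a ↦ (↑w⁻¹ : Γ(X, X.basicOpen (f x))) * a) hw.symm).trans w.inv_mul
  rw [Ideal.eq_top_iff_one]
  have hm' : appFun g m = 1 := hm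
  exact hm' ▸ hgs m

end GrothLib.SerreSub
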